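import Cfsg.Agent.H162.CC.Iface
import Cfsg.Agent.H533.Comm.Defs

/-!
# The two forms of the row (helper162, S3828)

`CRow` of `H162/CC/Iface` and `CRow` of `H533/Comm/Defs` are equivalent.
-/

set_option autoImplicit false

namespace Cfsg.Agent.H162.CCR

variable {G : Type*} [Group G] {p : ℕ}

theorem CRow.of_comm (h : Cfsg.Agent.H533.Comm.CRow p G) : CRow p G := by
  intro C hC c hc
  by_contra hc1
  exact h C ⟨⟨hC.conj, hC.pel, hC.comm, hC.sq⟩, ⟨c, hc, hc1⟩, fun H hH c hc hcC => hC.loc H hH c hcC hc⟩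

theorem CRow.to_comm (h : CRow p G) : Cfsg.Agent.H533.Comm.CRow p G := by
  rintro C ⟨⟨h1, h2, h3, h4⟩, ⟨c, hc, hc1⟩, h5⟩
  exact hc1 (h C ⟨⟨h1, h2, h3, h4⟩, fun H hH c hcC hc => h5 H hH c hc hcC⟩ c hc)

end Cfsg.Agent.H162.CCR
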