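import Cfsg.Agent.H162.CC.LieRows
import Cfsg.Agent.H201.CommAltB
import Cfsg.Agent.H793.CC.Sz
import Cfsg.Agent.H829.S3828.TwFFour
import Cfsg.Agent.H949.CcRee
import Cfsg.Agent.H759.CC.Mathieu
import Cfsg.Agent.H982.CrMathieu
import Cfsg.Agent.H791.CC.JOne
import Cfsg.Agent.H442.CRowJTwo
import Cfsg.Agent.H442.CRowJThree
import Cfsg.Agent.H417.CC.JFour
import Cfsg.Agent.H990.CC.HSMcL
import Cfsg.Agent.H874.CCSuz
import Cfsg.Agent.H341.CC.Co1
import Cfsg.Agent.H341.CC.ON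
import Cfsg.Agent.H184.CC.Fi
import Cfsg.Agent.H755.CC.Fi24
import Cfsg.Agent.H865.CC.Ly
import Cfsg.Agent.H668.Ly.LyRows
import Cfsg.Agent.H174.CC.Ru
import Cfsg.Agent.H892.CC.RowB
import Cfsg.Agent.H487.CC.PsuCross
import Cfsg.Agent.H778.CRowRee
import Cfsg.Agent.H239.CRowTits
import Cfsg.Agent.H659.CcHe
import Cfsg.Agent.H755.CC.HN
import Cfsg.Agent.H961.CRM.Main
import Cfsg.Agent.H230.CC.CoTwo
import Cfsg.Agent.H230.CC.CoThree
import Cfsg.Agent.H755.CC.ThCyc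
import Cfsg.Agent.H961.CTh.Two
import Cfsg.Agent.H593.CC.ThThree
import Cfsg.Agent.H593.CC.ThFive

/-!
# Assembly of the rows (helper162, S3828)

`crow_of_known` : all known simple groups.
-/

set_option autoImplicit false

namespace Cfsg.Agent.H162.CCR.Assembly

open Cfsg Cfsg.Agent.H162.CCR.LieRows

universe u

variable {K : Type u} [Group K] [Finite K] [IsSimpleGroup K]

theorem crow_ly (h : Spor.IsoLy K) (r : ℕ) [Fact r.Prime] : CRow r K := by
  by_cases h37 : r = 37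
  · subst h37
    exact Cfsg.Agent.H668.Ly.crow_ly_37 h
  · by_cases h67 : r = 67
    · subst h67
      exact Cfsg.Agent.H668.Ly.crow_ly_67 h
    · exact Cfsg.Agent.H865.CC.Ly.crow_ly h r h37 h67

theorem crow_ree {K : Type*} [Group K] (h : Lie.IsoRee K) (r : ℕ) [Fact r.Prime] : CRow r K := by
  obtain ⟨F, _, _, m, hm, hF, ⟨e⟩⟩ := h
  by_cases hd : r ∣ (3 ^ (2 * m + 1)) ^ 2 - 3 ^ (2 * m + 1) + 1
  · exact Cfsg.Agent.H949.CcRee.crow_ree_tor' hm hF e hd
  · exact (Cfsg.Agent.H778.CRowRee.crow_ree_easy hm hF r hd).of_equiv e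

theorem crow_spor (h : IsSporadicGroup K) (r : ℕ) [Fact r.Prime] : CRow r K := by
  rcases h with h | h | h | h | h | h | h | h | h | h | h | h | h | h | h | h | h | h | h | h | h | h | h | h | h | h
  · exact Cfsg.Agent.H759.CC.crow_m11 h r
  · exact Cfsg.Agent.H759.CC.crow_m12 h r
  · exact Cfsg.Agent.H982.CrMathieu.crow_m22 h r
  · exact Cfsg.Agent.H982.CrMathieu.crow_m23 h r
  · exact Cfsg.Agent.H982.CrMathieu.crow_m24 h r
  · exact Cfsg.Agent.H791.CC.JOne.crow_j1 h r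
  · exact Cfsg.Agent.H442.CRowJTwo.crow_j2 h r
  · exact Cfsg.Agent.H442.CRowJThree.crow_j3 h r
  · exact Cfsg.Agent.H417.CC.JFour.crow_j4 h r
  · exact Cfsg.Agent.H341.CC.crow_co1 h r
  · exact Cfsg.Agent.H230.CC.CoTwo.crow_co2 h r
  · exact Cfsg.Agent.H230.CC.CoThree.crow_co3 h r
  · exact Cfsg.Agent.H990.CCHS.crow_mcl h r
  · exact Cfsg.Agent.H990.CCHS.crow_hs h r
  · exact Cfsg.Agent.H874.CCSuz.crow_suz h
  · exact Cfsg.Agent.H659.CcHe.crow_he h r
  · exact Cfsg.Agent.H174.CC.Ru.crow_ru h r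
  · exact Cfsg.Agent.H341.CC.crow_on h r
  · exact crow_ly h r
  · exact Cfsg.Agent.H184.CCFi.crow_fi22 h
  · exact Cfsg.Agent.H184.CCFi.crow_fi23 h
  · exact Cfsg.Agent.H755.CC.FiTF.crow_fi24 h r
  · exact Cfsg.Agent.H755.CC.HNRow.crow_hn h r
  · exact Cfsg.Agent.H755.CC.ThCyc.crow_th_of Cfsg.Agent.H961.CTh.crow_two
      Cfsg.Agent.H593.CCTh.three Cfsg.Agent.H593.CCTh.five h r
  · exact Cfsg.Agent.H892.CC.RowB.crow_b h r
  · exact Cfsg.Agent.H961.CRM.crow_m h r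

theorem crow_exc (hab : ¬ IsMulCommutative K) (h : IsExceptionalLieType K) (r : ℕ) [Fact r.Prime] :
    CRow r K := by
  rcases h with h | h | h | h | h | h | h | h | h | h | h
  · exact crow_isoChevG2 hab h
  · exact crow_isoF4 hab h
  · exact crow_isoE6 hab h
  · exact crow_isoE7 hab h
  · exact crow_isoE8 hab h
  · exact crow_iso2E6 hab h
  · exact crow_iso3D4 hab h
  · exact Cfsg.Agent.H793.CC.Sz.crow_sz h r
  · exact crow_ree h r
  · exact Cfsg.Agent.H829.S3828.crow_2F4 h r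
  · exact Cfsg.Agent.H239.CRowTits.crow_tits h

/-- **All known simple groups.** -/
theorem crow_of_known (hab : ¬ IsMulCommutative K) (h : IsKnownSimple' K) (r : ℕ) [Fact r.Prime] :
    CRow r K := by
  rcases h with h | h | h | h | h | h | h | h | h | h
  · exfalso
    apply hab
    have h1 : Fact (Nat.card K).Prime := ⟨h⟩
    have h2 : IsCyclic K := isCyclic_of_prime_card rfl
    exact ⟨⟨fun a b => (IsCyclic.commGroup (α := K)).mul_comm a b⟩⟩
  · obtain ⟨n, hn, ⟨e⟩⟩ := h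
    exact (Cfsg.Agent.H201.CommAlt.crow_alt' hn r).of_equiv e
  · exact crow_isPSL hab h
  · exact crow_isPSp hab h
  · exact crow_isPSU hab h fun F _ _ q hF hq => Cfsg.Agent.H487.CCPsu3.crow_psu3 hF hq r
  · exact crow_isPOmegaOdd hab h
  · exact crow_isPOmegaPlus hab h
  · exact crow_isPOmegaMinus hab h
  · exact crow_exc hab h r
  · exact crow_spor h r

end Cfsg.Agent.H162.CCR.Assembly
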