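import Cfsg.Agent.H162.CC.Word
import Cfsg.Agent.H162.CC.Tools2
import Cfsg.Agent.H162.CC.Bridge
import Cfsg.Agent.H400.LieLocal

/-!
# The row of the groups of Lie type of rank at least two in the cross characteristic (helper162, S3828)

`crow_of_filt` : `K` simple with a filtered root group datum of characteristic `ℓ`, connected diagram of rank at least
two, not `A₂`: `CRow r K` for all primes `r ≠ ℓ`.

An element `c ≠ 1` of `C` normalises no non-trivial `ℓ`-subgroup.  By the displacement theorem (helper65) `c` is conjugate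
to an element of `B n_w B`, `w = s_{i₁} ⋯ s_{iₗ}` for any order of the nodes.  For a central element `u` of `U` in the root
group of a dominant root and a suitable order `u` and `u ^ c` commute, and the commuting trick applies.
-/

set_option autoImplicit false
set_option linter.unusedSectionVars false

namespace Cfsg.Agent.H162.CCR

open CoxeterSystem Cfsg.Agent.ChevalleyStructure.CoxeterGeom Cfsg.Agent.Tits.Roots Cfsg.Agent.Tits.Core
  Cfsg.Agent.Tits.RootComb Cfsg.Agent.Tits.Exchange Cfsg.Agent.Nodes.Reps Cfsg.Agent.Nodes.BNOf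
  Cfsg.Agent.Nodes.StabComb Cfsg.Agent.Nodes.Bruhat Cfsg.Agent.Nodes.OppDec Cfsg.Agent.Nodes.LeviDec
  Cfsg.Agent.KFacts.RgdBorelTits Cfsg.Agent.H65.Disp Cfsg.Agent.H65.Disp.Rgd

open Cfsg.Agent.BpLieP.Big (LocChar)

section Loc

variable {K : Type*} [Group K] [Finite K] [IsSimpleGroup K] {ℓ r : ℕ} [Fact ℓ.Prime] [Fact r.Prime] {C : Set K}

/-- an element of `C` normalising an `ℓ`-subgroup is trivial -/
theorem Min.eq_one_of_normalizes (hC : Min r C) (hab : ¬ IsMulCommutative K) (hr : r ≠ ℓ) (hloc : LocChar ℓ K) {c : K}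
    (hc : c ∈ C) {V : Subgroup K} (hV : IsPGroup ℓ V) (hV1 : V ≠ ⊥) (hcV : c ∈ Subgroup.normalizer (V : Set K)) :
    c = 1 := by
  by_contra hc1
  have hI : Cfsg.Agent.H533.Comm.Iso r K C :=
    ⟨⟨hC.conj, hC.pel, hC.comm, hC.sq⟩, ⟨c, hc, hc1⟩, fun H hH c hc hcC => hC.loc H hH c hcC hc⟩
  exact hc1 (hI.eq_one_of_normalizes hab hr.symm hloc hc hV hV1 hcV)

/-- an element of `C` commuting with an `ℓ`-element is trivial -/
theorem Min.eq_one_of_commute (hC : Min r C) (hab : ¬ IsMulCommutative K) (hr : r ≠ ℓ) (hloc : LocChar ℓ K) {c u : K}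
    (hc : c ∈ C) (hu : IsPGroup ℓ (Subgroup.zpowers u)) (hu1 : u ≠ 1) (hcu : c * u = u * c) : c = 1 := by
  refine hC.eq_one_of_normalizes hab hr hloc hc hu (fun h0 => hu1 (Subgroup.zpowers_eq_bot.1 h0)) ?_
  rw [Subgroup.mem_normalizer_iff]
  intro x
  have key : ∀ x ∈ Subgroup.zpowers u, c * x * c⁻¹ = x := by
    intro x hx
    obtain ⟨k, rfl⟩ := Subgroup.mem_zpowers_iff.1 hx
    have h8 : Commute c u := hcu
    rw [(h8.zpow_right k).eq, mul_assoc, mul_inv_cancel, mul_one]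
  constructor
  · intro hx
    rw [key x hx]
    exact hx
  · intro hx
    have h1 := key _ hx
    have h2 : c * x * c⁻¹ = x := by
      have h3 : c * (c * x * c⁻¹) * c⁻¹ = c * x * c⁻¹ := h1
      have h4 := congrArg (fun z => c⁻¹ * z * c) h3
      have e1 : c⁻¹ * (c * (c * x * c⁻¹) * c⁻¹) * c = c * x * c⁻¹ := by group
      have e2 : c⁻¹ * (c * x * c⁻¹) * c = x := by group
      beta_reduce at h4
      rw [e1, e2] at h4
      exact h4
    rwa [h2] at hx

/-- the commuting trick in local characteristic `ℓ` -/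
theorem Min.false_of_commute (hC : Min r C) (hab : ¬ IsMulCommutative K) (hr : r ≠ ℓ) (hloc : LocChar ℓ K) {c u : K}
    (hc : c ∈ C) (hc1 : c ≠ 1) (hu : IsPGroup ℓ (Subgroup.zpowers u)) (hu1 : u ≠ 1)
    (hcu : u * (c⁻¹ * u * c) = (c⁻¹ * u * c) * u) : False := by
  have hcop : (orderOf u).Coprime r := by
    obtain ⟨k, hk⟩ := IsPGroup.iff_card.1 hu
    rw [Nat.card_zpowers] at hk
    rw [hk]
    exact Nat.Coprime.pow_left k ((Nat.coprime_primes Fact.out Fact.out).2 hr.symm)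
  rcases hC.comm_trick hc hcop hcu with h1 | ⟨e, he, he1, h2⟩
  · exact hc1 (hC.eq_one_of_commute hab hr hloc hc hu hu1 h1.symm)
  · refine he1 (hC.eq_one_of_commute hab hr hloc he (u := c⁻¹ * u * c) ?_ ?_ h2)
    · have h3 : Subgroup.zpowers (c⁻¹ * u * c) = (Subgroup.zpowers u).map (MulAut.conj c⁻¹).toMonoidHom := by
        rw [MonoidHom.map_zpowers]
        simp
      rw [h3]
      exact hu.map _
    · intro h3
      apply hu1
      have : u = c * (c⁻¹ * u * c) * c⁻¹ := by group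
      rw [this, h3]
      group

end Loc

section Main

variable {I W K : Type*} [Fintype I] [DecidableEq I] [Group W] [Group K] {M : CoxeterMatrix I}
  {cs : CoxeterSystem M W} {A : I → I → ℤ} {h : IsCartan M A} {ℓ : ℕ} {T : Subgroup K} {n : I → K}
  {X : (I → ℤ) → Subgroup K}

/-- **The row.** -/
theorem crow_of_filt (R : RGD cs h ℓ T n X) {F : (I → ℤ) → ℝ → Subgroup K} (hF : Filt R F) [Finite W] [Finite K]
    [Fact ℓ.Prime] (hG : GG cs h T X = ⊤) (hM : Dom.Conn M) (hI : 2 ≤ Fintype.card I)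
    (hA : ¬ ∃ i j, M i j = 3 ∧ ∀ k, k = i ∨ k = j) [IsSimpleGroup K] (hab : ¬ IsMulCommutative K)
    (hloc : LocChar ℓ K) {r : ℕ} [Fact r.Prime] (hr : r ≠ ℓ) : CRow r K := by
  intro C hC c hc
  by_contra hc1
  have hne : Nonempty I := Fintype.card_pos_iff.1 (by omega)
  obtain ⟨x, hx, hx0, hd, u, hu, hu1, hcent⟩ := Dom.exists_dom R hF
  obtain ⟨ω, hω, hall, hw⟩ := Dom.exists_word cs h hM hI hA hx hx0 hd
  -- displacement
  obtain ⟨g, hg⟩ := exists_mem_PP (bg R hG) c (β := 1) (fun g => Iff.rfl) (π := 1) (fun i g => Iff.rfl) ω (o := 1)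
    (fun i => by
      show i ∈ ω ++ [].map _
      simpa using hall i)
  change g⁻¹ * (c * g) ∈ _ at hg
  set z : K := g⁻¹ * (c * g) with hz
  have hzC : z ∈ C := by
    have := hC.toCC.conj' g hc
    rwa [mul_assoc] at this
  have hz1 : z ≠ 1 := by
    intro h1
    apply hc1
    have : c = g * (g⁻¹ * (c * g)) * g⁻¹ := by group
    rw [this, ← hz, h1]
    group
  obtain ⟨ω', hsub, hcell⟩ := cell_of_PP R hg
  by_cases hww : ω' = ω
  swap
  · -- `z` lies in a proper parabolic subgroup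
    obtain ⟨i, hi⟩ : ∃ i, i ∉ ω' := by
      by_contra hcon
      push Not at hcon
      refine hww (hsub.eq_of_length_le ?_)
      have h1 : ω.toFinset ⊆ ω'.toFinset := fun i _ => List.mem_toFinset.2 (hcon i)
      have h2 := Finset.card_le_card h1
      rw [List.toFinset_card_of_nodup hω] at h2
      exact h2.trans (List.toFinset_card_le _)
    have h1 : z ∈ PJ cs h T X {j | j ≠ i} := by
      rw [cell_mem_PJ_iff R hcell]
      exact wordProd_mem_WJ cs fun j hj => by
        rintro rfl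
        exact hi hj
    exact hz1 (hC.eq_one_of_normalizes hab hr hloc hzC (isPGroup_VJ R _)
      (VJ_ne_bot R (J := {j | j ≠ i}) (i := i) (fun h3 => h3 rfl)) (PJ_le_normalizer_VJ R _ h1))
  rw [hww] at hcell
  obtain ⟨b₁, hb₁, k, hk, b₂, hb₂, e⟩ := hcell
  -- a conjugate in `B n_w`
  set y : K := b₂ * z * b₂⁻¹ with hy
  have hyC : y ∈ C := hC.conj b₂ z hzC
  have hy1 : y ≠ 1 := by
    intro h1
    apply hz1
    have : z = b₂⁻¹ * (b₂ * z * b₂⁻¹) * b₂ := by group
    rw [this, ← hy, h1]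
    group
  have hye : y = (b₂ * b₁) * k := by rw [hy, e]; group
  -- `u` commutes with `U`
  have huU : ∀ v ∈ RGD.Sup X (RGD.Pos cs h), u * v = v * u := by
    have h1 : RGD.Sup X (RGD.Pos cs h) ≤ Subgroup.centralizer {u} := by
      refine RGD.Sup_le ?_
      rintro y ⟨hy, hy0⟩ v hv
      exact Subgroup.mem_centralizer_singleton_iff.2 (hcent y hy hy0 v hv).symm
    intro v hv
    exact (Subgroup.mem_centralizer_singleton_iff.1 (h1 hv)).symm
  -- the conjugate of `u` under `B`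
  have hbu : (b₂ * b₁)⁻¹ * u * (b₂ * b₁) ∈ X x := by
    obtain ⟨t, ht, v, hv, e⟩ := R.mem_B.1 (mul_mem hb₂ hb₁)
    have h1 : t⁻¹ * u * t ∈ X x := by
      have h2 := R.tor x hx t ht
      have h3 : u ∈ cj t (X x) := by rw [h2]; exact hu
      exact mem_cj.1 h3
    have h2 : t * v * t⁻¹ ∈ RGD.Sup X (RGD.Pos cs h) := by
      have h3 := R.B_le_normalizer_U (RGD.T_le_B (h := h) (X := X) ht)
      exact (Subgroup.mem_normalizer_iff.1 h3 v).1 hv
    have h3 := huU _ h2
    have h4 : (t⁻¹ * u * t) * v = v * (t⁻¹ * u * t) := by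
      calc (t⁻¹ * u * t) * v = t⁻¹ * (u * (t * v * t⁻¹)) * t := by group
        _ = t⁻¹ * ((t * v * t⁻¹) * u) * t := by rw [h3]
        _ = v * (t⁻¹ * u * t) := by group
    have h5 : (b₂ * b₁)⁻¹ * u * (b₂ * b₁) = t⁻¹ * u * t := by
      rw [e]
      calc (t * v)⁻¹ * u * (t * v) = v⁻¹ * ((t⁻¹ * u * t) * v) := by group
        _ = t⁻¹ * u * t := by rw [h4, inv_mul_cancel_left]
    rw [h5]
    exact h1
  have hyu : y⁻¹ * u * y ∈ RGD.Sup X (RGD.Pos cs h) := by
    have h1 := R.conj_mem' hk hx hbu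
    have h2 : y⁻¹ * u * y = k⁻¹ * ((b₂ * b₁)⁻¹ * u * (b₂ * b₁)) * k := by rw [hye]; group
    rw [h2]
    exact RGD.le_Sup (S := RGD.Pos cs h) ⟨hx.act _, hw⟩ h1
  have hup : IsPGroup ℓ (Subgroup.zpowers u) := by
    refine (R.isPGroup_Upos).to_le (Subgroup.zpowers_le.2 ?_)
    exact RGD.le_Sup (S := RGD.Pos cs h) ⟨hx, hx0⟩ hu
  exact hC.false_of_commute hab hr hloc hyC hy1 hup hu1 (huU _ hyu)

end Main

end Cfsg.Agent.H162.CCR
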