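import Cfsg.Agent.H162.CC.Cross
import Cfsg.Agent.H460.Dgs
import Cfsg.Agent.KFacts.RgdFiltClass
import Cfsg.Agent.KFacts.RgdFiltChev
import Cfsg.Agent.KFacts.RgdFiltTwAll

/-!
# The cross characteristic rows of the families (helper162, S3828)

`HasFiltM p G M` : filtered root group datum of characteristic `p` and type `M`; `HasFiltM.crow`; instances for
`PSLₙ`, `n ≥ 4`, `PSp₂ₘ`, `PSUₙ`, `n ≥ 4`, the orthogonal groups, the exceptional groups, `²E₆`, `³D₄`.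
-/

set_option autoImplicit false
set_option linter.unusedSectionVars false

namespace Cfsg.Agent.H162.CCR.Fam

open Cfsg CoxeterSystem Cfsg.Agent.ChevalleyStructure.CoxeterGeom Cfsg.Agent.Tits.Roots Cfsg.Agent.Tits.Core
  Cfsg.Agent.Tits.RootComb Cfsg.Agent.Nodes.Comb Cfsg.Agent.Nodes.Reps Cfsg.Agent.Nodes.BNOf
open Cfsg.Agent.Nodes Cfsg.Agent.Nodes.RGDLib Cfsg.Agent.KFacts.RgdBorelTits Cfsg.Agent.KFacts.RgdFilt
open Cfsg.Agent.H460.Engine Cfsg.Agent.H460.Dgs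

/-- `G` has a filtered root group datum of characteristic `p` and type `M` -/
def HasFiltM (p : ℕ) (G : Type*) [Group G] {l : ℕ} (M : CoxeterMatrix (Fin l)) : Prop :=
  ∃ (A : Fin l → Fin l → ℤ) (h : IsCartan M A) (T : Subgroup G) (n : Fin l → G)
    (X : (Fin l → ℤ) → Subgroup G) (R : RGD M.toCoxeterSystem h p T n X) (F : (Fin l → ℤ) → ℝ → Subgroup G),
    Finite M.Group ∧ Nodes.RGDLib.G1 M.toCoxeterSystem h X = ⊤ ∧ Filt R F

theorem HasFiltM.hasFilt {p : ℕ} {G : Type*} [Group G] {l : ℕ} {M : CoxeterMatrix (Fin l)} (H : HasFiltM p G M) :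
    HasFilt p G := ⟨l, M, H⟩

/-- **The row.** -/
theorem HasFiltM.crow {ℓ : ℕ} [Fact ℓ.Prime] {K : Type*} [Group K] [Finite K] [IsSimpleGroup K] {l : ℕ}
    {M : CoxeterMatrix (Fin l)} (H : HasFiltM ℓ K M) (hD : Dg M) (hab : ¬ IsMulCommutative K) {r : ℕ} [Fact r.Prime]
    (hr : r ≠ ℓ) : CRow r K := by
  have hloc := H400.LieLocal.locChar_of_filt H.hasFilt
  obtain ⟨A, h, T, n, X, R, F, hW, hX, hF⟩ := H
  exact crow_of_filt R hF (KFacts.RgdFilt.GG_eq_top hX) hD.irr (by rw [Fintype.card_fin]; exact hD.two) hD.notA hab hloc hr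

/-- transport -/
theorem HasFiltM.crow_equiv {ℓ : ℕ} [Fact ℓ.Prime] {K L : Type*} [Group K] [Group L] [Finite K] [IsSimpleGroup K]
    (hab : ¬ IsMulCommutative K) {l : ℕ} {M : CoxeterMatrix (Fin l)} (H : HasFiltM ℓ L M) (hD : Dg M) (e : K ≃* L)
    {r : ℕ} [Fact r.Prime] (hr : r ≠ ℓ) : CRow r K := by
  have : IsSimpleGroup L := e.symm.isSimpleGroup
  have : Finite L := Finite.of_equiv K e.toEquiv
  have hab' : ¬ IsMulCommutative L := by
    intro h
    apply hab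
    refine ⟨⟨fun a b => ?_⟩⟩
    apply e.injective
    rw [map_mul, map_mul]
    exact h.is_comm.comm _ _
  exact (H.crow hD hab' hr).of_equiv e

end Cfsg.Agent.H162.CCR.Fam

/-! ### classical groups -/

namespace Cfsg.Agent.H162.CCR.Fam

open Cfsg Cfsg.Agent.ChevalleyStructure.CoxeterGeom Cfsg.Agent.Tits.Roots
open Cfsg.Agent.Nodes.Comb Cfsg.Agent.Nodes.Reps Cfsg.Agent.Nodes.WittRoot Cfsg.Agent.Nodes.BNOf
open Cfsg.Agent.Nodes.RGDLib Cfsg.Agent.Nodes.WittAll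
open Cfsg.Agent.TitsThree Cfsg.Agent.TitsThree.Siegel Cfsg.Agent.TitsThree.WittFrame
  Cfsg.Agent.TitsThree.WittWeyl Cfsg.Agent.TitsThree.FrameCN
open Cfsg.Agent.KFacts.RgdBorelTits Cfsg.Agent.KFacts.RgdFilt Cfsg.Agent.KFacts.RgdFiltWitt

theorem hasFiltM_of_sl {p : ℕ} {G : Type*} [Group G] {l : ℕ} {M : CoxeterMatrix (Fin l)} {A : Fin l → Fin l → ℤ}
    {h : IsCartan M A} {T : Subgroup G} {n : Fin l → G} {X : (Fin l → ℤ) → Subgroup G}
    (hW : Finite M.Group) (R : RGD M.toCoxeterSystem h p T n X) (hX : G1 M.toCoxeterSystem h X = ⊤)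
    (h4 : ∀ i j, M i j ≠ 4) (h6 : ∀ i j, M i j ≠ 6) : HasFiltM p G M :=
  ⟨A, h, T, n, X, R, F2 X X, hW, hX, (intComm_of_sl R (sl_of_ne h4 h6)).filt⟩

/-! ### type `C` -/

section TypeC

open Cfsg.Agent.Nodes.TypeC

variable {F : Type*} [Field F] {V : Type*} [AddCommGroup V] [Module F V] {H : HForm F V} {n : ℕ}
  {Fr : Frame H (Fin n)} {K : Type*} [Group K] (M : Model Fr K) {p : ℕ}

theorem hasFiltM_C (hA : AmbT Fr p M.I) [Finite V] [Fact p.Prime] [CharP F p] {p0 : Fr.Adm} (hp0 : p0.c ≠ 0)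
    (hn : 0 < n) : HasFiltM p K (CoxeterMatrix.B n) := by
  have : Finite (V ≃ₗ[F] V) := Finite.of_injective (fun g : V ≃ₗ[F] V => (g : V → V)) DFunLike.coe_injective
  have hF : Filt (rgdC hA hp0 (CoxeterMatrix.B n).toCoxeterSystem) (F2 (zr Fr) (rg Fr)) :=
    (two hA (T := Nodes.WittRGD.Tor Fr M.I) (fun i => ⟨nn_mem hA p0 i, Nodes.WittRGD.mono_nn hp0 i⟩)
      (fun _ ht => ⟨ht.1, ht.2⟩) _).filt
  have hF1 := filt_restrict hF M.I (fun x _ => hA.rg_le x)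
    (n' := fun i => (⟨Nodes.WittRGD.nn Fr p0 i, nn_mem hA p0 i⟩ : M.I)) (fun _ => rfl)
    (rgd_restrict (rgdC hA hp0 _) M.I (fun x _ => hA.rg_le x) (fun i => nn_mem hA p0 i))
  have hF2 := filt_map hF1 M.φ (rgdC_model M hA hp0 (CoxeterMatrix.B n).toCoxeterSystem)
  exact ⟨A n, isCartan n, _, _, _, rgdC_model M hA hp0 _, _,
    finite_W (CoxeterMatrix.B n).toCoxeterSystem, Nodes.WittModel.G1_eq_top _ hn _, hF2⟩

end TypeC

/-! ### linear groups -/

theorem hasFiltM_PSL {F : Type*} [Field F] [Finite F] (n : ℕ) {p : ℕ} [Fact p.Prime] [CharP F p] :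
    HasFiltM p (Matrix.ProjectiveSpecialLinearGroup (Fin (n + 1)) F) (Cfsg.Agent.LieRecognition.BNCox.cA n) := by
  have hc : ∀ i j : Fin n, Cfsg.Agent.LieRecognition.BNCox.cA n i j ≤ 3 := by
    intro i j
    rw [Cfsg.Agent.LieRecognition.BNCox.cA_apply]
    show (if (i : ℕ) = j then 1 else if (i : ℕ) + 1 = j ∨ (j : ℕ) + 1 = i then 3 else 2) ≤ 3
    split_ifs <;> norm_num
  have hW : Finite (Cfsg.Agent.LieRecognition.BNCox.cA n).Group :=
    Nodes.RootsA.finite_W (Cfsg.Agent.LieRecognition.BNCox.cA n).toCoxeterSystem (Nodes.RootsA.isCartan n)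
  exact hasFiltM_of_sl (h := Nodes.RootsA.isCartan n) hW (Nodes.RGDTypeA.rgd_psl _ _)
    (Nodes.RGDTypeA.G1_psl_eq_top _ _)
    (fun i j h => by have := hc i j; omega) (fun i j h => by have := hc i j; omega)

/-! ### Unitary and symplectic groups -/

open Cfsg.Agent.Nodes.WittU Cfsg.Agent.Nodes.WittInst

theorem hasFiltM_PSU {F : Type*} [Field F] [Fintype F] {q N : ℕ} (hF : Fintype.card F = q ^ 2) (hN : 3 ≤ N) {p : ℕ}
    [Fact p.Prime] [CharP F p] : ∃ m, 1 ≤ m ∧ (N = 2 * m ∨ N = 2 * m + 1) ∧ HasFiltM p (PSU N F q) (CoxeterMatrix.B m) := by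
  obtain ⟨m, hm⟩ : ∃ m, N = 2 * m ∨ N = 2 * m + 1 := ⟨N / 2, by omega⟩
  obtain ⟨W, -⟩ := exists_wframe hF hm
  obtain ⟨p0, hp0, -⟩ := exists_adm hF W
  exact ⟨m, by omega, hm, hasFiltM_C (KInstU.model hF hN W) (AmbT.of_amb (amb_U hF W) p) hp0 (by omega)⟩

theorem hasFiltM_PSp {F : Type*} [Field F] [Finite F] {m : ℕ} (hm : 1 ≤ m) {p : ℕ}
    [Fact p.Prime] [CharP F p] : HasFiltM p (PSp m F) (CoxeterMatrix.B m) :=
  hasFiltM_C (KInstSp.model m F) (AmbT.of_amb amb_Sp p) (p0 := SpIdent.adm 1) one_ne_zero hm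

/-! ### Orthogonal groups -/

section Orthogonal

open QuadraticMap
open Cfsg.Agent.LieClassical Cfsg.Agent.LieClassical.OrthCore Cfsg.Agent.LieClassical.OrthTrans
open Cfsg.Agent.LieClassical.OrthSimple Cfsg.Agent.LieClassical.OrthFinite
open Cfsg.Agent.LieClassical.OrthForms
open Cfsg.Agent.TitsThree.WBridge Cfsg.Agent.TitsThree.KSideO Cfsg.Agent.TitsThree.StdData

variable {F : Type*} [Field F] {m : ℕ}

theorem hasFiltM_PO_odd [Finite F] (h2 : (2 : F) ≠ 0) (hm : 2 ≤ m) {p : ℕ} [Fact p.Prime] [CharP F p] :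
    HasFiltM p (Cfsg.POmega F (Cfsg.quadFormOdd m F)) (CoxeterMatrix.B m) := by
  rw [← coe_oddForm]
  have hG : Good (oddForm m F) := by
    apply good_of_finite (nondeg_oddForm m F h2)
    rw [Module.finrank_fintype_fun_eq_card, Fintype.card_sum, Fintype.card_sum, Fintype.card_fin,
      Fintype.card_unit]
    omega
  have hp : ((embOdd m F).ngt ⟨1, -1 ^ 2, rfl⟩).c ≠ 0 := by
    change (1 : F)⁻¹ * (-1 ^ 2) ≠ 0
    simp
  exact hasFiltM_C (model (wodd m F) hG ⟨_, hp⟩) (AmbT.of_amb (amb_O_of_two _ h2) p) hp (by omega)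

theorem hasFiltM_PO_minus [Finite F] (a b : F)
    (hab : ∀ z₁ z₂ : F, z₁ ^ 2 + a * z₁ * z₂ + b * z₂ ^ 2 = 0 → z₁ = 0 ∧ z₂ = 0)
    (hm : 2 ≤ m) {p : ℕ} [Fact p.Prime] [CharP F p] :
    HasFiltM p (Cfsg.POmega F (Cfsg.quadFormMinus m F a b)) (CoxeterMatrix.B m) := by
  rw [← coe_minusForm]
  have hG : Good (minusForm m F a b) := by
    apply good_of_finite (nondeg_minusForm m F a b hab)
    rw [Module.finrank_fintype_fun_eq_card, Fintype.card_sum, Fintype.card_sum, Fintype.card_fin,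
      Fintype.card_fin]
    omega
  have hp : ((embMinus m F a b hab).ngt ⟨(1, 0), -nf a b (1, 0), rfl⟩).c ≠ 0 := by
    change (1 : F)⁻¹ * (-nf a b (1, 0)) ≠ 0
    simp [nf]
  have hA : AmbT (toFrame (wminus m F a b hab)) p (E (minusForm m F a b)) := by
    by_cases h2 : (2 : F) = 0
    · have hp2 : p = 2 := by
        have h3 : CharP F 2 := CharTwo.of_one_ne_zero_of_two_eq_zero one_ne_zero h2
        exact CharP.eq F ‹CharP F p› h3
      subst hp2
      exact ambT_O _ fun g hg hg2 hb => fixp_minus a b hab h2 hm hG hg hg2 hb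
    · exact AmbT.of_amb (amb_O_of_two _ h2) p
  exact hasFiltM_C (model (wminus m F a b hab) hG ⟨_, hp⟩) hA hp (by omega)

theorem hasFiltM_PO_plus [Finite F] (n : ℕ) {p : ℕ} [Fact p.Prime] [CharP F p] :
    HasFiltM p (Cfsg.POmega F (Cfsg.quadFormPlus (n + 3) F)) (Nodes.TypeD.M (n + 1)) := by
  rw [← coe_plusForm]
  have hG : Good (plusForm (n + 3) F) := by
    apply good_of_finite (nondeg_plusForm (n + 3) F)
    rw [Module.finrank_fintype_fun_eq_card, Fintype.card_sum, Fintype.card_fin]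
    omega
  have hc : ∀ i j : Fin (n + 1 + 2), Nodes.TypeD.M (n + 1) i j ≤ 3 := by
    intro i j
    show (if i = j then 1 else if Nodes.TypeD.Adj i j ∨ Nodes.TypeD.Adj j i then 3 else 2) ≤ 3
    split_ifs <;> norm_num
  exact hasFiltM_of_sl (Nodes.TypeD.finite_W (Nodes.TypeD.M (n + 1)).toCoxeterSystem)
    (rgdD_model (wplus (n + 3) F) hG (amb_plus _) (adm_plus _) _)
    (G1D_eq_top (wplus (n + 3) F) (toPOmega hG) (toPOmega_surjective hG) (adm_plus _) _)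
    (fun i j h => by have := hc i j; omega) (fun i j h => by have := hc i j; omega)

end Orthogonal

end Cfsg.Agent.H162.CCR.Fam

/-! ### exceptional groups -/

namespace Cfsg.Agent.H162.CCR.Fam

open CoxeterSystem Cfsg.Agent.ChevalleyStructure.CoxeterGeom Cfsg.Agent.Tits.Roots Cfsg.Agent.Tits.Core
  Cfsg.Agent.Tits.RootComb Cfsg.Agent.Nodes.Comb Cfsg.Agent.Nodes.Reps Cfsg.Agent.Nodes.BNOf
open Cfsg.Lie Cfsg.Agent.ChevalleyStructure Cfsg.Agent.ChevalleyStructure.Elts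
  Cfsg.Agent.ChevalleyStructure.RootVec Cfsg.Agent.ChevalleyStructure.RootVecTab
  Cfsg.Agent.ChevalleyStructure.NPerm Cfsg.Agent.ChevalleyStructure.CoxeterGeomTypes
open Cfsg.Agent.Nodes Cfsg.Agent.Nodes.RGDChev Cfsg.Agent.KFacts.RgdBorelTits Cfsg.Agent.KFacts.RgdFilt
open Cfsg.Agent.KFacts.RgdFiltChev

universe u

theorem hasFiltM_group {D : ChevalleyDatum} {l : ℕ} {M : CoxeterMatrix (Fin l)} (hp : IsType D l M) (K : Type u)
    [Field K] [Finite K] (p : ℕ) [CharP K p] : HasFiltM p ↥(D.group K) M := by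
  have : Fact p.Prime := ⟨CharP.char_is_prime K p⟩
  exact ⟨cartanOf D l, hp.isCartan, _, _, _, rgd (K := K) hp M.toCoxeterSystem p, _,
    finite_W hp M.toCoxeterSystem, G1_eq_top hp _, filt hp M.toCoxeterSystem p⟩

end Cfsg.Agent.H162.CCR.Fam

namespace Cfsg.Agent.H162.CCR.Fam

open CoxeterSystem Cfsg.Agent.ChevalleyStructure.CoxeterGeom Cfsg.Agent.Tits.Roots Cfsg.Agent.Tits.Core
  Cfsg.Agent.Nodes.BNOf Cfsg.Agent.Nodes.RGDTwGen Cfsg.Agent.Nodes.RGDChev Cfsg.Agent.Nodes.RGDFold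
open Cfsg.Lie Cfsg.Agent.ChevalleyStructure Cfsg.Agent.ChevalleyStructure.Elts
  Cfsg.Agent.ChevalleyStructure.RootVec Cfsg.Agent.ChevalleyStructure.RootVecTab
open Cfsg.Agent.Nodes Cfsg.Agent.KFacts.RgdBorelTits Cfsg.Agent.KFacts.RgdFilt Cfsg.Agent.KFacts.RgdFiltTwAll

universe u

section Fold

variable {D : ChevalleyDatum} {l : ℕ} {M' : CoxeterMatrix (Fin l)} {hp : IsType D l M'} {K : Type u} [Field K]
variable {m : ℕ} {M : CoxeterMatrix (Fin m)}
  {A : Fin m → Fin m → ℤ}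
    {J : Fin m → List (Fin l)} {L : List (List ℕ)} {σ : GL D.Idx K →* GL D.Idx K} {ρ ρ' : ℕ → ℕ}
    {f : ℕ → K → K} {G : Subgroup (GL D.Idx K)} (FD : FoldData D M A J L)
    (FG : FoldGrp hp K J L σ ρ ρ' f G)

include FD FG

theorem hasFiltM_fold [Finite K] (p : ℕ) [CharP K p] (h : IsCartan M A) : HasFiltM p ↥G M := by
  have : Fact p.Prime := ⟨CharP.char_is_prime K p⟩
  exact ⟨A, h, _, _, _, rgd M.toCoxeterSystem h FD FG p, _, finite_W (hp := hp) M.toCoxeterSystem h FD,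
    G1_eq_top M.toCoxeterSystem h FD FG p, filt_fold M.toCoxeterSystem h FD FG p⟩

end Fold

theorem hasFiltM_twD4 {K : Type u} [Field K] [Fintype K] {q : ℕ} (hq : IsPrimePow q) (hK : Fintype.card K = q ^ 3)
    (p : ℕ) [CharP K p] : HasFiltM p ↥(twistedD4 K q) CoxeterMatrix.G₂ := by
  obtain ⟨φ, hφ⟩ := D4Fixed.exists_frob hq hK
  exact hasFiltM_fold RGDTwD4.foldData (RGDTwD4.foldGrp hφ (D4Fixed.twisted_le_fix hK hφ)) p RGDTwD4.isCartan

theorem hasFiltM_twE6 {K : Type u} [Field K] [Fintype K] {q : ℕ} (hq : IsPrimePow q) (hK : Fintype.card K = q ^ 2)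
    (p : ℕ) [CharP K p] : HasFiltM p ↥(twistedE6 K q) CoxeterMatrix.F₄ := by
  obtain ⟨φ, hφ, hqq⟩ := TwE6Basic.exists_frob hq hK
  exact hasFiltM_fold RGDTwE6.foldData (RGDTwE6.foldGrp hφ hqq) p RGDTwE6.isCartan

end Cfsg.Agent.H162.CCR.Fam
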