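import Cfsg.Agent.H162.CC.CrossFam
import Cfsg.Agent.H804.CRow.Own
import Cfsg.Agent.H541.CrowPsl2
import Cfsg.Agent.H877.CRowPSL3

/-!
# The rows of the groups of Lie type, rank at least two (helper162, S3828)
-/

set_option autoImplicit false
set_option linter.unusedSectionVars false

namespace Cfsg.Agent.H162.CCR.LieRows

open Cfsg Cfsg.Agent.H162.CCR.Fam Cfsg.Agent.H460.Dgs Cfsg.Agent.H460.Engine Cfsg.Agent.H804.CRow

variable {K : Type*} [Group K] [Finite K] [IsSimpleGroup K]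

section

variable {r : ℕ} [Fact r.Prime]

/-- both characteristics -/
theorem crow_both (hab : ¬ IsMulCommutative K) {L : Type*} [Group L] {ℓ : ℕ} [Fact ℓ.Prime] {l : ℕ}
    {M : CoxeterMatrix (Fin l)} (H : HasFiltM ℓ L M) (hD : Dg M) (e : K ≃* L) (own : r = ℓ → CRow r L) : CRow r K := by
  by_cases h : r = ℓ
  · exact (own h).of_equiv e
  · exact H.crow_equiv hab hD e h

theorem fact_prime (F : Type) [Field F] [Finite F] (ℓ : ℕ) [CharP F ℓ] : Fact ℓ.Prime :=
  ⟨CharP.char_is_prime F ℓ⟩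

theorem crow_isPSL (hab : ¬ IsMulCommutative K) (h : IsPSL K) : CRow r K := by
  obtain ⟨F, _, _, n, hn, h4, ⟨e⟩⟩ := h
  obtain ⟨ℓ, hℓ⟩ := CharP.exists F
  have := fact_prime F ℓ
  rcases hn.eq_or_lt with rfl | hn
  · exact (Cfsg.Agent.H541.CrowPsl2.crow_psl2 (h4 rfl) r).of_equiv e
  · rcases (Nat.succ_le_of_lt hn).eq_or_lt with h3 | h3
    · obtain rfl : n = 3 := by omega
      by_cases h : r = ℓ
      · subst h
        exact (crow_own_psl (F := F) le_rfl).of_equiv e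
      · refine (Cfsg.Agent.H877.CRowPSL3.crow_psl3 r fun hd => ?_).of_equiv e
        obtain ⟨k, -, hk⟩ := FiniteField.card F ℓ
        rw [hk] at hd
        exact h ((Nat.prime_dvd_prime_iff_eq Fact.out Fact.out).1 (Nat.Prime.dvd_of_dvd_pow Fact.out hd))
    · obtain ⟨m, rfl⟩ : ∃ m, n = m + 1 := ⟨n - 1, by omega⟩
      exact crow_both hab (hasFiltM_PSL (F := F) m (p := ℓ)) (dg_A m (by omega)) e fun h => by
        subst h
        exact crow_own_psl (F := F) (by omega)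

theorem crow_isPSp (hab : ¬ IsMulCommutative K) (h : IsPSp K) : CRow r K := by
  obtain ⟨F, _, _, m, hm, -, ⟨e⟩⟩ := h
  obtain ⟨ℓ, hℓ⟩ := CharP.exists F
  have := fact_prime F ℓ
  exact crow_both hab (hasFiltM_PSp (F := F) (m := m) (by omega) (p := ℓ)) (dg_B m hm) e fun h => by
    subst h
    exact crow_own_psp (F := F) hm

theorem crow_isPSU (hab : ¬ IsMulCommutative K) (h : IsPSU K)
    (psu3 : ∀ (F : Type) [Field F] [Fintype F] (q : ℕ), Fintype.card F = q ^ 2 → 3 ≤ q → CRow r (PSU 3 F q)) :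
    CRow r K := by
  obtain ⟨F, _, _, n, q, hF, h3, h2, ⟨e⟩⟩ := h
  obtain ⟨ℓ, hℓ⟩ := CharP.exists F
  have := fact_prime F ℓ
  rcases h3.eq_or_lt with rfl | h3
  · have hq : 3 ≤ q := by
      by_contra hcon
      have h5 : 1 < Fintype.card F := Fintype.one_lt_card
      rw [hF] at h5
      have h6 : q ≠ 2 := fun h => h2 ⟨rfl, h⟩
      interval_cases q <;> omega
    exact (psu3 F q hF hq).of_equiv e
  · obtain ⟨m, hm, hmn, H⟩ := hasFiltM_PSU (N := n) hF (by omega) (p := ℓ)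
    exact crow_both hab H (dg_B m (by omega)) e fun h => by
      subst h
      exact crow_own_psu (F := F) hF (by omega)

theorem crow_isPOmegaOdd (hab : ¬ IsMulCommutative K) (h : IsPOmegaOdd K) : CRow r K := by
  obtain ⟨F, _, _, m, hm, hq, ⟨e⟩⟩ := h
  obtain ⟨ℓ, hℓ⟩ := CharP.exists F
  have := fact_prime F ℓ
  have h2 : (2 : F) ≠ 0 := by
    intro h2
    have h3 : CharP F 2 := CharTwo.of_one_ne_zero_of_two_eq_zero one_ne_zero h2
    obtain ⟨k, -, hk⟩ := FiniteField.card F 2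
    rw [hk] at hq
    exact absurd hq (by
      rw [Nat.not_odd_iff_even]
      exact (even_two).pow_of_ne_zero k.ne_zero)
  exact crow_both hab (hasFiltM_PO_odd (F := F) (m := m) h2 (by omega) (p := ℓ)) (dg_B m (by omega)) e fun h => by
    subst h
    exact crow_own_odd (F := F) h2 (by omega)

theorem crow_isPOmegaPlus (hab : ¬ IsMulCommutative K) (h : IsPOmegaPlus K) : CRow r K := by
  obtain ⟨F, _, _, m, hm, ⟨e⟩⟩ := h
  obtain ⟨ℓ, hℓ⟩ := CharP.exists F
  have := fact_prime F ℓ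
  obtain ⟨n, rfl⟩ : ∃ n, m = n + 3 := ⟨m - 3, by omega⟩
  exact crow_both hab (hasFiltM_PO_plus (F := F) n (p := ℓ)) (dg_D (n + 1) (by omega)) e fun h => by
    subst h
    exact crow_own_plus (F := F) (by omega)

theorem crow_isPOmegaMinus (hab : ¬ IsMulCommutative K) (h : IsPOmegaMinus K) : CRow r K := by
  obtain ⟨F, _, _, m, a, b, hm, hd, ⟨e⟩⟩ := h
  obtain ⟨ℓ, hℓ⟩ := CharP.exists F
  have := fact_prime F ℓ
  exact crow_both hab (hasFiltM_PO_minus (F := F) (m := m - 1) a b hd (by omega) (p := ℓ)) (dg_B (m - 1) (by omega)) e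
    (fun h => by
      subst h
      exact crow_own_minus (F := F) a b hd (by omega))

open Cfsg.Lie Cfsg.Agent.ChevalleyStructure Cfsg.Agent.ChevalleyStructure.CoxeterGeomTypes
  Cfsg.Agent.ChevalleyStructure.NPerm Cfsg.Agent.Nodes.RGDChev

theorem crow_isoChevG2 (hab : ¬ IsMulCommutative K) (h : Lie.IsoChevG2 K) : CRow r K := by
  obtain ⟨F, _, _, h3, ⟨e⟩⟩ := h
  obtain ⟨ℓ, hℓ⟩ := CharP.exists F
  have := fact_prime F ℓ
  have : Finite ↥(chevG2.group F) := Finite.of_equiv K e.toEquiv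
  exact crow_both hab (hasFiltM_group (D := chevG2) (l := 2) (M := CoxeterMatrix.G₂) (by simp [IsType, typeList]) F ℓ)
    dg_G2 e (fun h => by
      subst h
      exact crow_own_exceptional ⟨F, inferInstance, inferInstance, hℓ, Or.inl ⟨h3, ⟨MulEquiv.refl _⟩⟩⟩)

theorem crow_isoF4 (hab : ¬ IsMulCommutative K) (h : Lie.IsoF4 K) : CRow r K := by
  obtain ⟨F, _, _, ⟨e⟩⟩ := h
  obtain ⟨ℓ, hℓ⟩ := CharP.exists F
  have := fact_prime F ℓ
  have : Finite ↥(chevF4.group F) := Finite.of_equiv K e.toEquiv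
  exact crow_both hab (hasFiltM_group (D := chevF4) (l := 4) (M := CoxeterMatrix.F₄) (by simp [IsType, typeList]) F ℓ)
    dg_F4 e (fun h => by
      subst h
      exact crow_own_exceptional ⟨F, inferInstance, inferInstance, hℓ, Or.inr (Or.inl ⟨MulEquiv.refl _⟩)⟩)

theorem crow_isoE6 (hab : ¬ IsMulCommutative K) (h : Lie.IsoChevE6 K) : CRow r K := by
  obtain ⟨F, _, _, ⟨e⟩⟩ := h
  obtain ⟨ℓ, hℓ⟩ := CharP.exists F
  have := fact_prime F ℓ
  have : Finite ↥(chevE6.group F) := Finite.of_equiv K e.toEquiv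
  exact crow_both hab (hasFiltM_group (D := chevE6) (l := 6) (M := CoxeterMatrix.E₆) (by simp [IsType, typeList]) F ℓ)
    dg_E6 e (fun h => by
      subst h
      exact crow_own_exceptional ⟨F, inferInstance, inferInstance, hℓ, Or.inr (Or.inr (Or.inl ⟨MulEquiv.refl _⟩))⟩)

theorem crow_isoE7 (hab : ¬ IsMulCommutative K) (h : Lie.IsoE7 K) : CRow r K := by
  obtain ⟨F, _, _, ⟨e⟩⟩ := h
  obtain ⟨ℓ, hℓ⟩ := CharP.exists F
  have := fact_prime F ℓ
  have : Finite ↥(chevE7.group F) := Finite.of_equiv K e.toEquiv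
  exact crow_both hab (hasFiltM_group (D := chevE7) (l := 7) (M := CoxeterMatrix.E₇) (by simp [IsType, typeList]) F ℓ)
    dg_E7 e (fun h => by
      subst h
      exact crow_own_exceptional ⟨F, inferInstance, inferInstance, hℓ, Or.inr (Or.inr (Or.inr (Or.inl ⟨MulEquiv.refl _⟩)))⟩)

theorem crow_isoE8 (hab : ¬ IsMulCommutative K) (h : Lie.IsoE8 K) : CRow r K := by
  obtain ⟨F, _, _, ⟨e⟩⟩ := h
  obtain ⟨ℓ, hℓ⟩ := CharP.exists F
  have := fact_prime F ℓ
  have : Finite ↥(chevE8.group F) := Finite.of_equiv K e.toEquiv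
  exact crow_both hab (hasFiltM_group (D := chevE8) (l := 8) (M := CoxeterMatrix.E₈) (by simp [IsType, typeList]) F ℓ)
    dg_E8 e (fun h => by
      subst h
      exact crow_own_exceptional ⟨F, inferInstance, inferInstance, hℓ, Or.inr (Or.inr (Or.inr (Or.inr ⟨MulEquiv.refl _⟩)))⟩)

theorem crow_iso2E6 (hab : ¬ IsMulCommutative K) (h : Lie.Iso2E6 K) : CRow r K := by
  obtain ⟨F, _, _, q, hq, hF, ⟨e⟩⟩ := h
  obtain ⟨ℓ, hℓ⟩ := CharP.exists F
  have := fact_prime F ℓ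
  have : Finite ↥(twistedE6 F q) := Finite.of_equiv K e.toEquiv
  exact crow_both hab (hasFiltM_twE6 hq hF ℓ) dg_F4 e fun h => by
    subst h
    exact crow_own_twisted ⟨F, inferInstance, inferInstance, hℓ, q, hq, Or.inl ⟨hF, ⟨MulEquiv.refl _⟩⟩⟩

theorem crow_iso3D4 (hab : ¬ IsMulCommutative K) (h : Lie.Iso3D4 K) : CRow r K := by
  obtain ⟨F, _, _, q, hq, hF, ⟨e⟩⟩ := h
  obtain ⟨ℓ, hℓ⟩ := CharP.exists F
  have := fact_prime F ℓ
  have : Finite ↥(twistedD4 F q) := Finite.of_equiv K e.toEquiv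
  exact crow_both hab (hasFiltM_twD4 hq hF ℓ) dg_G2 e fun h => by
    subst h
    exact crow_own_twisted ⟨F, inferInstance, inferInstance, hℓ, q, hq, Or.inr ⟨hF, ⟨MulEquiv.refl _⟩⟩⟩

end

end Cfsg.Agent.H162.CCR.LieRows
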