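import Cfsg.Agent.H162.CC.Iface
import Cfsg.Agent.Involutions.BaerSuzuki
import Cfsg.Prelude.Def_EvenType

/-!
# Tools for the rows `CRow p G` (helper162, S3828)

`G` finite, non-abelian simple, `h : Min p C`.

* `Min.eq_one_of_mem`, `Min.eq_one_of_index`, `Min.two_overgroups`, `Min.inter_eq`, `Min.le_M`;
-/

set_option autoImplicit false

namespace Cfsg.Agent.H162.CCR

open Subgroup Cfsg Cfsg.Agent.Lib.Cores

variable {G : Type*} [Group G] {p : ℕ} {C : Set G}

section First

theorem Min.conj_mem (h : Min p C) (g : G) {c : G} (hc : c ∈ C) : g * c * g⁻¹ ∈ C := h.conj g c hc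

theorem Min.conj_mem' (h : Min p C) (g : G) {c : G} (hc : c ∈ C) : g⁻¹ * c * g ∈ C := h.toCC.conj' g hc

/-- `[c, c^g] ∈ C` -/
theorem Min.comm_conj (h : Min p C) (g : G) {c : G} (hc : c ∈ C) :
    c⁻¹ * (g⁻¹ * c * g)⁻¹ * c * (g⁻¹ * c * g) ∈ C := h.comm c hc _ (h.conj_mem' g hc)

/-- elements of `C` in a proper subgroup `H` with `O_p(H) = 1` are trivial -/
theorem Min.eq_one_of_mem (h : Min p C) {H : Subgroup G} (hH : H ≠ ⊤) (hO : pCore p H = ⊥) {c : G} (hc : c ∈ C)
    (hcH : c ∈ H) : c = 1 := by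
  have h1 := h.loc H hH c hc hcH
  rw [hO, Subgroup.mem_bot] at h1
  exact congrArg Subtype.val h1

/-- more generally: `C ∩ H` lies in every Sylow `p`-subgroup of `G` containing a Sylow `p`-subgroup of `H` -/
theorem Min.mem_map_pCore (h : Min p C) {H : Subgroup G} (hH : H ≠ ⊤) {c : G} (hc : c ∈ C) (hcH : c ∈ H) :
    c ∈ (pCore p H).map H.subtype := ⟨⟨c, hcH⟩, h.loc H hH c hc hcH, rfl⟩

theorem Min.isPGroup_zpowers [hp : Fact p.Prime] (h : Min p C) {c : G} (hc : c ∈ C) :
    IsPGroup p (Subgroup.zpowers c) := by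
  obtain ⟨k, hk⟩ := h.pel c hc
  exact IsPGroup.of_card (n := k) (by rw [Nat.card_zpowers, hk])

/-- every element of `C` has a conjugate in a subgroup of index prime to `p` -/
theorem Min.exists_conj_mem [Finite G] [hp : Fact p.Prime] (h : Min p C) {H : Subgroup G} (hi : ¬ p ∣ H.index) {c : G}
    (hc : c ∈ C) : ∃ g : G, g * c * g⁻¹ ∈ H := by
  obtain ⟨P, hP⟩ := (h.isPGroup_zpowers hc).exists_le_sylow
  obtain ⟨Q⟩ : Nonempty (Sylow p H) := Sylow.nonempty
  have hQ : IsPGroup p ((Q : Subgroup H).map H.subtype) := Q.2.map _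
  obtain ⟨R, hR⟩ := hQ.exists_le_sylow
  -- `R = Q`
  have h1 : (R : Subgroup G) ≤ H := by
    have hc1 : Nat.card R ∣ Nat.card ((Q : Subgroup H).map H.subtype) := by
      rw [Nat.card_congr ((Q : Subgroup H).equivMapOfInjective H.subtype H.subtype_injective).symm.toEquiv]
      rw [Sylow.card_eq_multiplicity, Sylow.card_eq_multiplicity]
      refine pow_dvd_pow p ?_
      rw [← Subgroup.card_mul_index H, Nat.factorization_mul Nat.card_pos.ne' H.index_ne_zero_of_finite,
        Finsupp.add_apply, Nat.factorization_eq_zero_of_not_dvd hi, add_zero]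
    have h2 : (Q : Subgroup H).map H.subtype = R := by
      apply Subgroup.eq_of_le_of_card_ge hR
      exact Nat.le_of_dvd Nat.card_pos hc1
    rw [← h2]
    exact Subgroup.map_subtype_le _
  obtain ⟨g, hg⟩ := MulAction.exists_smul_eq G P R
  refine ⟨g, h1 ?_⟩
  rw [← hg, Sylow.coe_subgroup_smul]
  exact Subgroup.smul_mem_pointwise_smul c (MulAut.conj g) _ (hP (Subgroup.mem_zpowers c))

/-- **A proper subgroup of index prime to `p` with `O_p(H) = 1`.** -/
theorem Min.eq_one_of_index [Finite G] [hp : Fact p.Prime] (h : Min p C) {H : Subgroup G} (hH : H ≠ ⊤)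
    (hi : ¬ p ∣ H.index) (hO : pCore p H = ⊥) : ∀ c ∈ C, c = 1 := by
  intro c hc
  obtain ⟨g, hg⟩ := h.exists_conj_mem hi hc
  have h1 := h.eq_one_of_mem hH hO (h.conj_mem g hc) hg
  have h2 : c = g⁻¹ * (g * c * g⁻¹) * g := by group
  rw [h2, h1]
  group

end First

section Simple

variable [Finite G] [hp : Fact p.Prime]

theorem pCore_eq_bot_of_simple [hs : IsSimpleGroup G] (hab : ¬ IsMulCommutative G) (q : ℕ) [hq : Fact q.Prime] :
    pCore q G = ⊥ := by
  rcases hs.eq_bot_or_eq_top_of_normal (pCore q G) inferInstance with h | h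
  · exact h
  · exfalso
    have h1 : IsPGroup q G := (pCore_eq_top_iff q).1 h
    have h2 : Group.IsNilpotent G := h1.isNilpotent
    have h3 : Group.IsSolvable G := inferInstance
    exact hab ⟨⟨IsSimpleGroup.comm_iff_isSolvable.2 h3⟩⟩

variable (hO : pCore p G = ⊥)

include hO in
/-- `N(D)` is proper -/
theorem normalizer_ne_top {D : Subgroup G} (hD : IsPGroup p D) (hD1 : D ≠ ⊥) :
    Subgroup.normalizer (D : Set G) ≠ ⊤ := by
  intro h
  apply hD1
  rw [eq_bot_iff, ← hO]
  exact le_pCore (Subgroup.normalizer_eq_top_iff.1 h) hD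

include hO in
/-- **Two Sylow subgroups with a common non-trivial element of `C` contain the same elements of `C`.** -/
theorem Min.inter_eq_aux (h : Min p C) (n : ℕ) : ∀ P Q : Sylow p G,
    Nat.card G ≤ n + (C ∩ (P : Set G) ∩ (Q : Set G)).ncard → (∃ c ∈ C, c ≠ 1 ∧ c ∈ (P : Subgroup G) ∧ c ∈ (Q : Subgroup G)) →
      C ∩ (P : Set G) = C ∩ (Q : Set G) := by
  have hcard : ∀ P Q : Sylow p G, (C ∩ (P : Set G)).ncard = (C ∩ (Q : Set G)).ncard := by
    have hle : ∀ P Q : Sylow p G, (C ∩ (P : Set G)).ncard ≤ (C ∩ (Q : Set G)).ncard := by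
      intro P Q
      obtain ⟨g, rfl⟩ := MulAction.exists_smul_eq G P Q
      refine Set.ncard_le_ncard_of_injOn (fun x => g * x * g⁻¹) ?_ ?_ (Set.toFinite _)
      · intro x hx
        refine ⟨h.conj g x hx.1, ?_⟩
        have hx2 : x ∈ (P : Subgroup G) := hx.2
        show g * x * g⁻¹ ∈ ((g • P : Sylow p G) : Subgroup G)
        rw [Sylow.coe_subgroup_smul]
        exact Subgroup.smul_mem_pointwise_smul x (MulAut.conj g) _ hx2
      · intro x _ y _ hxy
        simpa using hxy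
    exact fun P Q => le_antisymm (hle P Q) (hle Q P)
  induction n with
  | zero =>
    intro P Q hn _
    have h1 : (C ∩ (P : Set G) ∩ (Q : Set G)).ncard ≤ Nat.card G := Set.ncard_le_card _
    have h2 : C ∩ (P : Set G) ∩ (Q : Set G) = Set.univ := by
      apply Set.eq_of_subset_of_ncard_le (Set.subset_univ _)
      · rw [Set.ncard_univ]; omega
    have h3 : C ∩ (P : Set G) = Set.univ := Set.eq_univ_of_univ_subset (h2 ▸ Set.inter_subset_left)
    have h4 : C ∩ (Q : Set G) = Set.univ := by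
      apply Set.eq_univ_of_univ_subset
      rw [← h2]
      intro x hx
      exact ⟨hx.1.1, hx.2⟩
    rw [h3, h4]
  | succ n ih =>
    intro P Q hn hc
    by_contra hne
    obtain ⟨c, hcC, hc1, hcP, hcQ⟩ := hc
    set E : Set G := C ∩ (P : Set G) ∩ (Q : Set G) with hEdef
    have hEK : C ∩ (Subgroup.closure E : Set G) = E := by
      apply Set.Subset.antisymm
      · rintro x ⟨hxK, hx⟩
        refine ⟨⟨hxK, ?_⟩, ?_⟩
        · exact (Subgroup.closure_le (P : Subgroup G)).2 (fun y hy => hy.1.2) hx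
        · exact (Subgroup.closure_le (Q : Subgroup G)).2 (fun y hy => hy.2) hx
      · intro x hx
        exact ⟨hx.1.1, Subgroup.subset_closure hx⟩
    have hEP : E ⊂ C ∩ (P : Set G) := by
      refine lt_of_le_of_ne Set.inter_subset_left ?_
      intro heq
      apply hne
      apply Set.eq_of_subset_of_ncard_le _ (hcard P Q).ge
      rw [← heq]
      exact fun x hx => ⟨hx.1.1, hx.2⟩
    have hEQ : E ⊂ C ∩ (Q : Set G) := by
      refine lt_of_le_of_ne (fun x hx => ⟨hx.1.1, hx.2⟩) ?_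
      intro heq
      apply hne
      symm
      apply Set.eq_of_subset_of_ncard_le _ (hcard Q P).ge
      rw [← heq]
      exact fun x hx => ⟨hx.1.1, hx.1.2⟩
    obtain ⟨x, hxK, hxP, hxE, hxN⟩ :=
      Involutions.BaerSuzuki.exists_mem_normalizer_closure h.conj P.2 hEK hEP
    obtain ⟨y, hyK, hyQ, hyE, hyN⟩ :=
      Involutions.BaerSuzuki.exists_mem_normalizer_closure h.conj Q.2 hEK hEQ
    have hDp : IsPGroup p (Subgroup.closure E : Subgroup G) :=
      P.2.to_le ((Subgroup.closure_le (P : Subgroup G)).2 (fun y hy => hy.1.2))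
    have hcE : c ∈ E := ⟨⟨hcC, hcP⟩, hcQ⟩
    have hD1 : Subgroup.closure E ≠ ⊥ := by
      intro h1
      apply hc1
      have := Subgroup.subset_closure hcE
      rw [h1] at this
      simpa using this
    -- `C ∩ N(D)` lies in a Sylow subgroup
    have hN := normalizer_ne_top hO hDp hD1
    have hOp : IsPGroup p ((pCore p (Subgroup.normalizer ((Subgroup.closure E : Subgroup G) : Set G))).map
        (Subgroup.normalizer ((Subgroup.closure E : Subgroup G) : Set G)).subtype) := (pCore_isPGroup p).map _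
    obtain ⟨R, hR⟩ := hOp.exists_le_sylow
    have hmem : ∀ z ∈ C, z ∈ Subgroup.normalizer ((Subgroup.closure E : Subgroup G) : Set G) → z ∈ (R : Subgroup G) :=
      fun z hz hzN => hR (h.mem_map_pCore hN hz hzN)
    have hER : ∀ e ∈ E, e ∈ (R : Subgroup G) := fun e he =>
      hmem e he.1.1 (Subgroup.le_normalizer (Subgroup.subset_closure he))
    have h1 : C ∩ (P : Set G) = C ∩ (R : Set G) := by
      apply ih
      · have hlt : E.ncard < (C ∩ (P : Set G) ∩ (R : Set G)).ncard := by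
          apply Set.ncard_lt_ncard _ (Set.toFinite _)
          refine (Set.ssubset_iff_of_subset ?_).2 ⟨x, ⟨⟨hxK, hxP⟩, hmem x hxK hxN⟩, hxE⟩
          exact fun e he => ⟨he.1, hER e he⟩
        omega
      · exact ⟨c, hcC, hc1, hcP, hER c hcE⟩
    have h2 : C ∩ (Q : Set G) = C ∩ (R : Set G) := by
      apply ih
      · have hlt : E.ncard < (C ∩ (Q : Set G) ∩ (R : Set G)).ncard := by
          apply Set.ncard_lt_ncard _ (Set.toFinite _)
          refine (Set.ssubset_iff_of_subset ?_).2 ⟨y, ⟨⟨hyK, hyQ⟩, hmem y hyK hyN⟩, hyE⟩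
          exact fun e he => ⟨⟨he.1.1, he.2⟩, hER e he⟩
        omega
      · exact ⟨c, hcC, hc1, hcQ, hER c hcE⟩
    exact hne (h1.trans h2.symm)

include hO in
/-- **Two Sylow subgroups with a common non-trivial element of `C` contain the same elements of `C`.** -/
theorem Min.inter_eq (h : Min p C) {P Q : Sylow p G} {c : G} (hc : c ∈ C) (hc1 : c ≠ 1) (hP : c ∈ (P : Subgroup G))
    (hQ : c ∈ (Q : Subgroup G)) : C ∩ (P : Set G) = C ∩ (Q : Set G) :=
  h.inter_eq_aux hO (Nat.card G) P Q (Nat.le_add_right _ _) ⟨c, hc, hc1, hP, hQ⟩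

/-- the subgroup generated by the elements of `C` in `P` -/
def W (C : Set G) (P : Subgroup G) : Subgroup G := Subgroup.closure (C ∩ (P : Set G))

/-- its normaliser -/
def M (C : Set G) (P : Subgroup G) : Subgroup G := Subgroup.normalizer ((W C P : Subgroup G) : Set G)

omit [Finite G] hp in
theorem W_le {P : Subgroup G} : W C P ≤ P := (Subgroup.closure_le _).2 Set.inter_subset_right

omit [Finite G] hp in
theorem mem_W {P : Subgroup G} {c : G} (hc : c ∈ C) (hP : c ∈ P) : c ∈ W C P := Subgroup.subset_closure ⟨hc, hP⟩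

omit [Finite G] hp in
theorem W_le_M {P : Subgroup G} : W C P ≤ M C P := Subgroup.le_normalizer

omit [Finite G] hp in
/-- elements normalising the set `C ∩ P` -/
theorem mem_M_of {P : Subgroup G} {g : G} (h1 : ∀ c ∈ C, c ∈ P → g * c * g⁻¹ ∈ W C P)
    (h2 : ∀ c ∈ C, c ∈ P → g⁻¹ * c * g ∈ W C P) : g ∈ M C P := by
  unfold M
  have key : ∀ k : G, (∀ c ∈ C, c ∈ P → k * c * k⁻¹ ∈ W C P) → ∀ x ∈ W C P, k * x * k⁻¹ ∈ W C P := by
    intro k hk x hx
    have h3 : (W C P).map (MulAut.conj k).toMonoidHom ≤ W C P := by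
      conv_lhs => unfold W
      rw [MonoidHom.map_closure, Subgroup.closure_le]
      rintro _ ⟨c, hc, rfl⟩
      exact hk c hc.1 hc.2
    exact h3 ⟨x, hx, by simp⟩
  rw [Subgroup.mem_normalizer_iff]
  intro x
  refine ⟨key g h1 x, fun hx => ?_⟩
  have h3 := key g⁻¹ (fun c hc hP => by rw [inv_inv]; exact h2 c hc hP) _ hx
  have e : g⁻¹ * (g * x * g⁻¹) * g⁻¹⁻¹ = x := by group
  rwa [e] at h3

omit [Finite G] hp in
theorem Min.P_le_M (h : Min p C) (P : Subgroup G) : P ≤ M C P := fun g hg =>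
  mem_M_of (fun c hc hP => mem_W (h.conj g c hc) (P.mul_mem (P.mul_mem hg hP) (P.inv_mem hg)))
    (fun c hc hP => mem_W (h.conj_mem' g hc) (P.mul_mem (P.mul_mem (P.inv_mem hg) hP) hg))

omit hp in
theorem W_isPGroup (P : Sylow p G) : IsPGroup p (W C (P : Subgroup G)) := P.2.to_le W_le

theorem mem_smul_sylow {P : Sylow p G} {g x : G} (hx : x ∈ (P : Subgroup G)) :
    g * x * g⁻¹ ∈ ((g • P : Sylow p G) : Subgroup G) := by
  rw [Sylow.coe_subgroup_smul]
  exact Subgroup.smul_mem_pointwise_smul x (MulAut.conj g) _ hx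

include hO in
/-- **The overgroups of a non-trivial element `c ∈ C ∩ P` lie in `M = N(⟨C ∩ P⟩)`.** -/
theorem Min.le_M (h : Min p C) {P : Sylow p G} {c : G} (hc : c ∈ C) (hc1 : c ≠ 1) (hP : c ∈ (P : Subgroup G))
    {H : Subgroup G} (hH : H ≠ ⊤) (hcH : c ∈ H) : H ≤ M C (P : Subgroup G) := by
  have hOp : IsPGroup p ((pCore p H).map H.subtype) := (pCore_isPGroup p).map _
  obtain ⟨R, hR⟩ := hOp.exists_le_sylow
  have hmem : ∀ z ∈ C, z ∈ H → z ∈ (R : Subgroup G) := fun z hz hzH => hR (h.mem_map_pCore hH hz hzH)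
  have hPR := h.inter_eq hO hc hc1 hP (hmem c hc hcH)
  have key : ∀ g ∈ H, ∀ d ∈ C, d ∈ (P : Subgroup G) → g * d * g⁻¹ ∈ (P : Subgroup G) := by
    intro g hg d hd hdP
    have h1 : g * c * g⁻¹ ∈ H := H.mul_mem (H.mul_mem hg hcH) (H.inv_mem hg)
    have h2 : g * c * g⁻¹ ∈ (R : Subgroup G) := hmem _ (h.conj g c hc) h1
    have h3 : g * c * g⁻¹ ≠ 1 := fun h4 => hc1 (by simpa using h4)
    have h4 := h.inter_eq hO (P := g • P) (Q := R) (h.conj g c hc) h3 (mem_smul_sylow hP) h2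
    have h5 : g * d * g⁻¹ ∈ C ∩ ((g • P : Sylow p G) : Set G) := ⟨h.conj g d hd, mem_smul_sylow hdP⟩
    rw [h4, ← hPR] at h5
    exact h5.2
  intro g hg
  refine mem_M_of (fun d hd hdP => mem_W (h.conj g d hd) (key g hg d hd hdP)) (fun d hd hdP => ?_)
  have h1 := key g⁻¹ (H.inv_mem hg) d hd hdP
  rw [inv_inv] at h1
  exact mem_W (h.conj_mem' g hd) h1

include hO in
theorem Min.M_ne_top (_h : Min p C) {P : Sylow p G} {c : G} (hc : c ∈ C) (hc1 : c ≠ 1) (hP : c ∈ (P : Subgroup G)) :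
    M C (P : Subgroup G) ≠ ⊤ := by
  refine normalizer_ne_top hO (W_isPGroup P) ?_
  intro h1
  apply hc1
  have := mem_W (C := C) hc hP
  rw [h1] at this
  simpa using this

include hO in
/-- **Two proper overgroups of a non-trivial element of `C` generate a proper subgroup.** -/
theorem Min.two_overgroups (h : Min p C) {c : G} (hc : c ∈ C) (hc1 : c ≠ 1) {H K : Subgroup G} (hH : H ≠ ⊤)
    (hK : K ≠ ⊤) (hcH : c ∈ H) (hcK : c ∈ K) : H ⊔ K ≠ ⊤ := by
  obtain ⟨P, hP⟩ := (h.isPGroup_zpowers hc).exists_le_sylow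
  have hcP := hP (Subgroup.mem_zpowers c)
  intro h1
  apply h.M_ne_top hO hc hc1 hcP
  rw [eq_top_iff, ← h1]
  exact sup_le (h.le_M hO hc hc1 hcP hH hcH) (h.le_M hO hc hc1 hcP hK hcK)

include hO in
/-- elements of `C` in `M` lie in `P` -/
theorem Min.mem_P_of_mem_M (h : Min p C) {P : Sylow p G} {c d : G} (hc : c ∈ C) (hc1 : c ≠ 1)
    (hP : c ∈ (P : Subgroup G)) (hd : d ∈ C) (hdM : d ∈ M C (P : Subgroup G)) : d ∈ (P : Subgroup G) := by
  have hOp : IsPGroup p ((pCore p (M C (P : Subgroup G))).map (M C (P : Subgroup G)).subtype) :=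
    (pCore_isPGroup p).map _
  obtain ⟨R, hR⟩ := hOp.exists_le_sylow
  have hM := h.M_ne_top hO hc hc1 hP
  have h1 := h.inter_eq hO hc hc1 hP (hR (h.mem_map_pCore hM hc (h.P_le_M _ hP)))
  have h2 : d ∈ C ∩ (R : Set G) := ⟨hd, hR (h.mem_map_pCore hM hd hdM)⟩
  rw [← h1] at h2
  exact h2.2

include hO in
/-- the centraliser lies in `M` -/
theorem Min.centralizer_le_M (h : Min p C) {P : Sylow p G} {c : G} (hc : c ∈ C) (hc1 : c ≠ 1)
    (hP : c ∈ (P : Subgroup G)) (hcent : Subgroup.centralizer {c} ≠ ⊤) : Subgroup.centralizer {c} ≤ M C (P : Subgroup G) :=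
  h.le_M hO hc hc1 hP hcent (by rw [Subgroup.mem_centralizer_singleton_iff])

include hO in
/-- conjugation into `P` is controlled by `M` -/
theorem Min.mem_M_of_conj (h : Min p C) {P : Sylow p G} {c g : G} (hc : c ∈ C) (hc1 : c ≠ 1)
    (hP : c ∈ (P : Subgroup G)) (hg : g * c * g⁻¹ ∈ (P : Subgroup G)) : g ∈ M C (P : Subgroup G) := by
  have h3 : g * c * g⁻¹ ≠ 1 := fun h4 => hc1 (by simpa using h4)
  have h1 := h.inter_eq hO (P := g • P) (Q := P) (h.conj g c hc) h3 (mem_smul_sylow hP) hg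
  have key1 : ∀ d ∈ C, d ∈ (P : Subgroup G) → g * d * g⁻¹ ∈ (P : Subgroup G) := by
    intro d hd hdP
    have h5 : g * d * g⁻¹ ∈ C ∩ ((g • P : Sylow p G) : Set G) := ⟨h.conj g d hd, mem_smul_sylow hdP⟩
    rw [h1] at h5
    exact h5.2
  have key2 : ∀ d ∈ C, d ∈ (P : Subgroup G) → g⁻¹ * d * g ∈ (P : Subgroup G) := by
    intro d hd hdP
    have h5 : d ∈ C ∩ ((g • P : Sylow p G) : Set G) := by rw [h1]; exact ⟨hd, hdP⟩
    have h6 : d ∈ ((g • P : Sylow p G) : Subgroup G) := h5.2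
    rw [Sylow.coe_subgroup_smul, Subgroup.mem_pointwise_smul_iff_inv_smul_mem] at h6
    simpa [MulAut.smul_def] using h6
  exact mem_M_of (fun d hd hdP => mem_W (h.conj g d hd) (key1 d hd hdP))
    (fun d hd hdP => mem_W (h.conj_mem' g hd) (key2 d hd hdP))

end Simple

end Cfsg.Agent.H162.CCR
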